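import Groth.Agent.Div21Desc.GenFib
import Groth.Agent.Div21Lib.Normal

/-! Descent of a family of fractions to a normal base. -/

set_option autoImplicit false
set_option backward.isDefEq.respectTransparency false
set_option backward.isDefEq.respectTransparency.types false
set_option linter.style.haveILetI false
universe u

open CategoryTheory CategoryTheory.Limits AlgebraicGeometry TopologicalSpace IsLocalRing Opposite

noncomputable section

namespace Groth.Agent.Div21Desc

open Groth.Agent.Div21Lib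

section Span

variable {R : Type u} [CommRing R]

/-- Equality of the principal ideals. -/
def Eqv (u v : R) : Prop := Ideal.span ({u} : Set R) = Ideal.span {v}

theorem Eqv.refl (u : R) : Eqv u u := Eq.refl _
theorem Eqv.symm {u v : R} (h : Eqv u v) : Eqv v u := Eq.symm h
theorem Eqv.trans {u v w : R} (h : Eqv u v) (h' : Eqv v w) : Eqv u w := Eq.trans h h'
theorem Eqv.of_eq {u v : R} (h : u = v) : Eqv u v := by rw [h]; exact Eq.refl _

theorem Eqv.mul {u v u' v' : R} (h : Eqv u v) (h' : Eqv u' v') : Eqv (u * u') (v * v') := by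
  rw [Eqv, ← Ideal.span_singleton_mul_span_singleton, ← Ideal.span_singleton_mul_span_singleton, h, h']

theorem Eqv.map {S : Type u} [CommRing S] (φ : R →+* S) {u v : R} (h : Eqv u v) : Eqv (φ u) (φ v) := by
  rw [Eqv, ← Set.image_singleton, ← Ideal.map_span, h, Ideal.map_span, Set.image_singleton]

theorem Eqv.of_isUnit {u v : R} (hu : IsUnit u) (hv : IsUnit v) : Eqv u v := by
  rw [Eqv, Ideal.span_singleton_eq_top.2 hu, Ideal.span_singleton_eq_top.2 hv]

theorem Eqv.isUnit {u v : R} (h : Eqv u v) (hv : IsUnit v) : IsUnit u :=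
  Ideal.span_singleton_eq_top.1 (Eq.trans h (Ideal.span_singleton_eq_top.2 hv))

theorem Eqv.cancel {u v w : R} (hw : w ∈ nonZeroDivisors R) (h : Eqv (u * w) (v * w)) : Eqv u v := by
  have key : ∀ u v : R, u * w ∣ v * w → u ∣ v := fun u v ⟨c, hc⟩ =>
    ⟨c, (mul_cancel_right_mem_nonZeroDivisors hw).1 (by rw [hc]; ring)⟩
  exact le_antisymm (Ideal.span_singleton_le_span_singleton.2 (key v u (Ideal.span_singleton_le_span_singleton.1 h.le)))
    (Ideal.span_singleton_le_span_singleton.2 (key u v (Ideal.span_singleton_le_span_singleton.1 h.ge)))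

theorem Eqv.exists_unit {u v : R} (hv : v ∈ nonZeroDivisors R) (h : Eqv u v) : ∃ w, IsUnit w ∧ u = w * v := by
  obtain ⟨c, hc⟩ := Ideal.span_singleton_le_span_singleton.1 h.le
  obtain ⟨d, hd⟩ := Ideal.span_singleton_le_span_singleton.1 h.ge
  refine ⟨c, IsUnit.of_mul_eq_one d ((mul_cancel_left_mem_nonZeroDivisors hv).1 ?_), by rw [hc, mul_comm]⟩
  rw [mul_one, ← mul_assoc, ← hc, ← hd]

end Span

variable {X Y : Scheme.{u}} (f : X ⟶ Y) (hdom : ∀ y : Y, IsDomain (Y.presheaf.stalk y))

include hdom in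
theorem stalkSpecializes_ne_zero {y' y : Y} (h : y' ⤳ y) {a : Y.presheaf.stalk y} (ha : a ≠ 0) :
    Y.presheaf.stalkSpecializes h a ≠ 0 := by
  obtain ⟨η, hη', hη, -⟩ := exists_max hdom y'
  intro h0
  refine (specializes_max_ne_zero hdom hη (hη'.trans h) ha).ne_zero ?_
  rw [← TopCat.Presheaf.stalkSpecializes_comp Y.presheaf hη' h, CommRingCat.comp_apply, h0, map_zero]

include hdom in
theorem gm_regular [Flat f] {x : X} {y : Y} (h : f x ⤳ y) {a : Y.presheaf.stalk y} (ha : a ≠ 0) :
    gm f h a ∈ nonZeroDivisors (X.presheaf.stalk x) := by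
  rw [gm_eq, RingHom.comp_apply]
  exact stalkMap_regular f hdom (stalkSpecializes_ne_zero hdom h ha)

theorem spec_gm {x' x : X} {y : Y} (hx : x' ⤳ x) (h : f x ⤳ y) (a : Y.presheaf.stalk y) :
    X.presheaf.stalkSpecializes hx (gm f h a) = gm f ((hx.map f.continuous).trans h) a := by
  rw [gm_generize f hx h]; rfl

theorem spec_stalkMap {x' x : X} (hx : x' ⤳ x) (a : Y.presheaf.stalk (f x)) :
    X.presheaf.stalkSpecializes hx (f.stalkMap x a) =
      gm f ((hx.map f.continuous).trans (specializes_refl (f x))) a := by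
  rw [← spec_gm f hx (specializes_refl (f x)) a, gm_refl]

/-- Fractions `b x / a x` defining the same divisor near each point. -/
structure Fam where
  a : ∀ x : X, Y.presheaf.stalk (f x)
  b : ∀ x : X, X.presheaf.stalk x
  a_ne : ∀ x, a x ≠ 0
  b_reg : ∀ x, b x ∈ nonZeroDivisors (X.presheaf.stalk x)
  b_unit : ∀ x, IsMax (f x) → IsUnit (b x)
  compat : ∀ (x' x : X) (h : x' ⤳ x),
    Eqv (X.presheaf.stalkSpecializes h (b x) * f.stalkMap x' (a x'))
      (b x' * X.presheaf.stalkSpecializes h (f.stalkMap x (a x)))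

variable {f} (F : Fam f)

/-- The fraction `d / c` at `y` gives the family at `x`. -/
def Fam.Rel (x : X) {y : Y} (h : f x ⤳ y) (c d : Y.presheaf.stalk y) : Prop :=
  Eqv (gm f h c * F.b x) (gm f h d * f.stalkMap x (F.a x))

/-- The family descends at `y`. -/
def Fam.P (y : Y) : Prop :=
  ∃ c d : Y.presheaf.stalk y, c ≠ 0 ∧ d ≠ 0 ∧ ∀ (x : X) (h : f x = y), F.Rel x (specializes_of_eq h) c d

variable {F}

include hdom in
theorem Fam.Rel.generize [Flat f] {x' x : X} (hx : x' ⤳ x) {y : Y} {h : f x ⤳ y} {c d : Y.presheaf.stalk y}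
    (H : F.Rel x h c d) : F.Rel x' ((hx.map f.continuous).trans h) c d := by
  have h1 := (Eqv.map (X.presheaf.stalkSpecializes hx).hom H).mul (Eqv.refl (f.stalkMap x' (F.a x')))
  rw [map_mul, map_mul] at h1
  rw [Fam.Rel, ← spec_gm f hx h c, ← spec_gm f hx h d]
  have hw : X.presheaf.stalkSpecializes hx (f.stalkMap x (F.a x)) ∈ nonZeroDivisors _ := by
    rw [spec_stalkMap]
    exact gm_regular f hdom _ (F.a_ne x)
  refine Eqv.cancel hw ?_
  rw [mul_assoc, mul_right_comm (X.presheaf.stalkSpecializes hx (gm f h d))]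
  refine ((Eqv.refl _).mul (F.compat x' x hx).symm).trans ?_
  rw [← mul_assoc]
  exact h1

include hdom in
/-- Two fractions which give the family at the same point are equal. -/
theorem Fam.Rel.eqv [Flat f] {x : X} {y : Y} {h : f x = y} {c d c' d' : Y.presheaf.stalk y}
    (H : F.Rel x (specializes_of_eq h) c d) (H' : F.Rel x (specializes_of_eq h) c' d') :
    Eqv (c * d') (c' * d) := by
  have h1 : Eqv (gm f (specializes_of_eq h) (c * d')) (gm f (specializes_of_eq h) (c' * d)) := by
    refine Eqv.cancel (F.b_reg x) ?_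
    rw [map_mul, map_mul, mul_right_comm]
    refine (H.mul (Eqv.refl _)).trans ?_
    rw [mul_assoc, mul_comm (f.stalkMap x (F.a x))]
    refine ((Eqv.refl _).mul H'.symm).trans (Eqv.of_eq ?_)
    ring
  rw [Eqv, ← comap_map_gm f h (Ideal.span {c * d'}), ← comap_map_gm f h (Ideal.span {c' * d}),
    Ideal.map_span, Ideal.map_span, Set.image_singleton, Set.image_singleton, h1]

include hdom in
theorem Fam.Rel.of_eqv [Flat f] {x : X} {y : Y} {h : f x ⤳ y} {c d c' d' : Y.presheaf.stalk y}
    (H : F.Rel x h c d) (hd : d ≠ 0) (he : Eqv (c * d') (c' * d)) : F.Rel x h c' d' := by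
  refine Eqv.cancel (gm_regular f hdom h hd) ?_
  refine (Eqv.of_eq (show _ = gm f h (c' * d) * F.b x by rw [map_mul]; ring)).trans ?_
  refine ((Eqv.map (gm f h) he.symm).mul (Eqv.refl _)).trans ?_
  refine (Eqv.of_eq (show _ = gm f h d' * (gm f h c * F.b x) by rw [map_mul]; ring)).trans ?_
  exact ((Eqv.refl _).mul H).trans (Eqv.of_eq (by ring))

include hdom in
/-- A fraction at a point determines those at its generisations. -/
theorem eqv_of_generize [Flat f] {y' y : Y} (h : y' ⤳ y) {x : X} (hx : f x = y) {c d : Y.presheaf.stalk y}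
    (H : F.Rel x (specializes_of_eq hx) c d) {c' d' : Y.presheaf.stalk y'}
    (H' : ∀ (x' : X) (e : f x' = y'), F.Rel x' (specializes_of_eq e) c' d') :
    Eqv (Y.presheaf.stalkSpecializes h c * d') (c' * Y.presheaf.stalkSpecializes h d) := by
  obtain ⟨x', hx', hfx'⟩ := exists_generization f (x := x) (y' := y') (hx.symm ▸ h)
  refine Fam.Rel.eqv hdom (h := hfx') ?_ (H' x' hfx')
  have h1 := H.generize hdom hx'
  rw [Fam.Rel, show gm f ((hx'.map f.continuous).trans (specializes_of_eq hx)) =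
    gm f ((specializes_of_eq hfx').trans h) from rfl, gm_comp] at h1
  exact h1

include hdom in
theorem rel_of_P [Flat f] {y : Y} {x₀ : X} (hx₀ : f x₀ = y) {c d : Y.presheaf.stalk y}
    (H : F.Rel x₀ (specializes_of_eq hx₀) c d) (hd : d ≠ 0) {x : X} (h : f x ⤳ y) (hP : F.P (f x)) :
    F.Rel x h c d := by
  obtain ⟨c', d', -, hd', H'⟩ := hP
  have h1 := (H' x rfl).of_eqv hdom (c' := Y.presheaf.stalkSpecializes h c)
    (d' := Y.presheaf.stalkSpecializes h d) hd' (eqv_of_generize hdom h hx₀ H H').symm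
  rw [Fam.Rel, ← show (gm f (specializes_refl (f x))).comp (Y.presheaf.stalkSpecializes h).hom = gm f h from
    (gm_comp f (specializes_refl (f x)) h).symm]
  exact h1

variable [IsLocallyNoetherian X] [IsLocallyNoetherian Y] [Flat f] [Surjective f]

include hdom in
/-- In depth at least two the family is given at `x` by a fraction if it descends at all strict generisations. -/
theorem exists_rel_at (x : X) (hd : (2 : ℕ∞) ≤ LocCoh.depth (Y.presheaf.stalk (f x)) (Y.presheaf.stalk (f x)))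
    (hP : ∀ y', y' ⤳ f x → y' ≠ f x → F.P y') :
    ∃ d : Y.presheaf.stalk (f x), d ≠ 0 ∧ F.Rel x (specializes_refl (f x)) (F.a x) d := by
  have := hdom (f x)
  letI := (f.stalkMap x).hom.toAlgebra
  haveI : Module.Flat (Y.presheaf.stalk (f x)) (X.presheaf.stalk x) := Flat.stalkMap f x
  haveI : IsLocalHom (algebraMap (Y.presheaf.stalk (f x)) (X.presheaf.stalk x)) :=
    inferInstanceAs (IsLocalHom (f.stalkMap x).hom)
  suffices h : ∀ p : Ideal (Y.presheaf.stalk (f x)), p.IsPrime → p ≠ maximalIdeal _ →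
      ∃ t, t ∉ p ∧ f.stalkMap x t * F.b x ∈
        ((Ideal.span {F.b x}).comap (f.stalkMap x).hom).map (f.stalkMap x).hom by
    obtain ⟨a, ha, he⟩ := exists_generator_of_off_closed hd (F.b_reg x) h
    refine ⟨a, nonZeroDivisors.ne_zero ha, ?_⟩
    have he' : Eqv (f.stalkMap x a) (F.b x) := he
    rw [Fam.Rel, gm_refl, mul_comm]
    exact he'.symm.mul (Eqv.refl _)
  intro p hp hne
  haveI := hp
  obtain ⟨y', h', rfl⟩ := H23.StalkPrimes.exists_point p
  have hy' : y' ≠ f x := primeOf_ne_maximal h' hne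
  obtain ⟨c', d', hc', hd', H'⟩ := hP y' h' hy'
  have := hdom y'
  have key0 : ∀ (x' : X) (hx : x' ⤳ x) (hxy : f x' ⤳ y'),
      Eqv (gm f hxy c' * X.presheaf.stalkSpecializes hx (F.b x))
        (gm f hxy (d' * Y.presheaf.stalkSpecializes h' (F.a x))) := by
    intro x' hx hxy
    obtain ⟨x₀, hx₀⟩ := f.surjective y'
    have hne' : f x' ≠ f x := fun he => hy' (h'.antisymm (he ▸ hxy)).eq
    have h1 := rel_of_P hdom hx₀ (H' x₀ hx₀) hd' hxy (hP _ (hxy.trans h') hne')
    refine Eqv.cancel (w := f.stalkMap x' (F.a x')) (stalkMap_regular f hdom (F.a_ne x')) ?_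
    rw [mul_assoc]
    refine ((Eqv.refl _).mul (F.compat x' x hx)).trans ?_
    rw [← mul_assoc, map_mul, mul_right_comm _ _ (f.stalkMap x' (F.a x'))]
    refine (h1.mul ?_)
    rw [spec_stalkMap, show gm f (((hx.map f.continuous)).trans (specializes_refl (f x))) =
      gm f (hxy.trans h') from rfl, gm_comp]
    exact Eqv.refl _
  obtain ⟨x₁, hx₁, hfx₁⟩ := exists_generization f (x := x) (y' := y') h'
  obtain ⟨e, he⟩ : c' ∣ d' * Y.presheaf.stalkSpecializes h' (F.a x) := by
    rw [← Ideal.mem_span_singleton, ← comap_map_gm f hfx₁ (Ideal.span {c'}), Ideal.mem_comap, Ideal.map_span,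
      Set.image_singleton, Ideal.mem_span_singleton]
    exact Ideal.span_singleton_le_span_singleton.1 ((key0 x₁ hx₁ (specializes_of_eq hfx₁)).ge.trans
      (Ideal.span_singleton_le_span_singleton.2 (dvd_mul_right _ _)))
  letI := (Y.presheaf.stalkSpecializes h').hom.toAlgebra
  haveI := H23.StalkPrimes.isLocalization_primeOf h'
  obtain ⟨c, s, hcs⟩ := IsLocalization.exists_mk'_eq (CDiv6.primeOf h').asIdeal.primeCompl e
  have hc : Eqv e (Y.presheaf.stalkSpecializes h' c) := by
    refine ((Eqv.of_eq (mul_one e).symm).trans ((Eqv.refl e).mul (Eqv.of_isUnit isUnit_one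
      (IsLocalization.map_units (Y.presheaf.stalk y') s)))).trans (Eqv.of_eq ?_)
    rw [← hcs, IsLocalization.mk'_spec]
    rfl
  have key : ∀ (x' : X) (hx : x' ⤳ x), f x' ⤳ y' →
      Eqv (X.presheaf.stalkSpecializes hx (f.stalkMap x c)) (X.presheaf.stalkSpecializes hx (F.b x)) := by
    intro x' hx hxy
    refine Eqv.cancel (gm_regular f hdom hxy hc') ?_
    refine Eqv.trans ?_ ((key0 x' hx hxy).symm.trans (Eqv.of_eq (mul_comm _ _)))
    rw [he, map_mul, mul_comm (gm f hxy c')]
    refine Eqv.mul ((Eqv.of_eq ?_).trans (Eqv.map (gm f hxy) hc.symm)) (Eqv.refl _)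
    rw [spec_stalkMap, show gm f (((hx.map f.continuous)).trans (specializes_refl (f x))) =
      gm f (hxy.trans h') from rfl, gm_comp]
    rfl
  obtain ⟨t₁, ht₁, d₁⟩ := exists_mul_dvd f h' (F.b x) (f.stalkMap x c) fun x' hx hxy =>
    Ideal.span_singleton_le_span_singleton.1 (key x' hx hxy).le
  obtain ⟨t₂, ht₂, d₂⟩ := exists_mul_dvd f h' (f.stalkMap x c) (F.b x) fun x' hx hxy =>
    Ideal.span_singleton_le_span_singleton.1 (key x' hx hxy).ge
  refine ⟨t₁ * t₂, Submonoid.mul_mem (CDiv6.primeOf h').asIdeal.primeCompl ht₁ ht₂, ?_⟩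
  obtain ⟨e, he⟩ := d₂
  rw [map_mul, mul_assoc, he, ← mul_assoc]
  refine Ideal.mul_mem_right _ _ ?_
  rw [← map_mul]
  refine Ideal.mem_map_of_mem _ (Ideal.mem_comap.2 (Ideal.mem_span_singleton.2 ?_))
  rw [map_mul]
  exact d₁

include hdom in
theorem P_of_two_le_depth (y : Y) (hd : (2 : ℕ∞) ≤ LocCoh.depth (Y.presheaf.stalk y) (Y.presheaf.stalk y))
    (hP : ∀ y', y' ⤳ y → y' ≠ y → F.P y') : F.P y := by
  have := hdom y
  have hgen : ∀ (x : X) (h : f x = y), ∃ c d : Y.presheaf.stalk y, c ≠ 0 ∧ d ≠ 0 ∧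
      F.Rel x (specializes_of_eq h) c d := by
    rintro x rfl
    obtain ⟨d, hd', H⟩ := exists_rel_at hdom x hd hP
    exact ⟨F.a x, d, F.a_ne x, hd', H⟩
  obtain ⟨x₀, hx₀⟩ := f.surjective y
  obtain ⟨c₀, d₀, hc₀, hd₀, H₀⟩ := hgen x₀ hx₀
  refine ⟨c₀, d₀, hc₀, hd₀, fun x hx => ?_⟩
  obtain ⟨c₁, d₁, hc₁, hd₁, H₁⟩ := hgen x hx
  refine H₁.of_eqv hdom hd₁ ?_
  suffices ∀ a b : Y.presheaf.stalk y, b ≠ 0 →
      (∀ (y' : Y) (h : y' ⤳ y), y' ≠ y →
        Eqv (Y.presheaf.stalkSpecializes h a) (Y.presheaf.stalkSpecializes h b)) → b ∣ a by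
    have heq : ∀ (y' : Y) (h : y' ⤳ y), y' ≠ y →
        Eqv (Y.presheaf.stalkSpecializes h (c₁ * d₀)) (Y.presheaf.stalkSpecializes h (c₀ * d₁)) := fun y' h hne => by
      obtain ⟨c', d', hc', hd', H'⟩ := hP y' h hne
      have := hdom y'
      have e₀ := eqv_of_generize hdom h hx₀ H₀ H'
      have e₁ := eqv_of_generize hdom h hx H₁ H'
      refine Eqv.cancel (mem_nonZeroDivisors_of_ne_zero (mul_ne_zero hc' hd')) ?_
      rw [map_mul, map_mul]
      exact ((Eqv.of_eq (by ring)).trans (e₁.mul e₀.symm)).trans (Eqv.of_eq (by ring))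
    exact le_antisymm
      (Ideal.span_singleton_le_span_singleton.2 (this _ _ (mul_ne_zero hc₀ hd₁) heq))
      (Ideal.span_singleton_le_span_singleton.2 (this _ _ (mul_ne_zero hc₁ hd₀) fun y' h hne => (heq y' h hne).symm))
  intro a b hb hab
  refine dvd_of_dvd_off_fibre (A := Y.presheaf.stalk y) (B := Y.presheaf.stalk y) hd
    (mem_nonZeroDivisors_of_ne_zero hb) fun t ht => ?_
  obtain ⟨n, hn⟩ := exists_pow_mem (T := (Ideal.span {b}).colon ({a} : Set (Y.presheaf.stalk y)))
    (fun p hp hle => by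
      by_contra hne
      haveI := hp
      obtain ⟨y', h', rfl⟩ := H23.StalkPrimes.exists_point p
      obtain ⟨w, hw⟩ := Ideal.span_singleton_le_span_singleton.1 (hab y' h' (primeOf_ne_maximal h' hne)).le
      letI := (Y.presheaf.stalkSpecializes h').hom.toAlgebra
      haveI := H23.StalkPrimes.isLocalization_primeOf h'
      obtain ⟨c, s, rfl⟩ := IsLocalization.exists_mk'_eq (CDiv6.primeOf h').asIdeal.primeCompl w
      have h2 : algebraMap _ (Y.presheaf.stalk y') (↑s * a) = algebraMap _ (Y.presheaf.stalk y') (b * c) := by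
        rw [map_mul, map_mul]
        refine (congrArg _ hw).trans ?_
        rw [mul_left_comm]
        exact congrArg _ (IsLocalization.mk'_spec' _ c s)
      obtain ⟨r, hr⟩ := (IsLocalization.eq_iff_exists (CDiv6.primeOf h').asIdeal.primeCompl _).1 h2
      refine Submonoid.mul_mem _ r.2 s.2 (hle ?_)
      rw [Submodule.mem_colon_singleton, smul_eq_mul, Ideal.mem_span_singleton, mul_assoc, hr]
      exact ⟨r * c, mul_left_comm _ _ _⟩) ht
  rw [Submodule.mem_colon_singleton, smul_eq_mul, Ideal.mem_span_singleton] at hn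
  exact ⟨n, by rwa [Algebra.algebraMap_self_apply]⟩

omit [IsLocallyNoetherian X] [IsLocallyNoetherian Y] [Flat f] [Surjective f] in
include hdom in
theorem P_of_max (y : Y) (hy : IsMax y) : F.P y := by
  have := hdom y
  refine ⟨1, 1, one_ne_zero, one_ne_zero, fun x hx => ?_⟩
  subst hx
  rw [Fam.Rel, map_one, one_mul, one_mul]
  refine Eqv.of_isUnit (F.b_unit x hy) ((IsUnit.map _ ?_))
  rw [← not_not (a := IsUnit (F.a x)), ← mem_nonunits_iff, ← IsLocalRing.mem_maximalIdeal,
    maximalIdeal_eq_bot hdom hy, Ideal.mem_bot]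
  exact F.a_ne x

include hdom in
theorem P_of_dim_one (hY : Pi1.IsNormalScheme Y) (y : Y) (h : ringKrullDim (Y.presheaf.stalk y) = 1)
    [IsIntegral (f.fiber y)] : F.P y := by
  have := hdom y
  haveI := (hY y).2
  haveI := CDiv6.isDVR_of_dim_eq_one _ h
  obtain ⟨π, hπ⟩ := IsDiscreteValuationRing.exists_irreducible (Y.presheaf.stalk y)
  have hm := hπ.maximalIdeal_eq
  have hπm : π ∈ maximalIdeal (Y.presheaf.stalk y) := hm ▸ Ideal.mem_span_singleton_self π
  have loc : ∀ (x : X) (hx : f x = y),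
      ∃ k l : ℕ, F.Rel x (specializes_of_eq hx) (π ^ l) (π ^ k) := by
    intro x hx
    set φ := gm f (specializes_of_eq hx) with hφ
    haveI := isLocalHom_gm f hx
    have hreg : φ π ∈ nonZeroDivisors _ := gm_regular f hdom _ hπ.ne_zero
    obtain ⟨w, rfl⟩ : x ∈ Set.range (f.fiberι y) := by rw [f.range_fiberι]; exact hx
    have hker : RingHom.ker ((f.fiberι y).stalkMap w).hom = Ideal.span {φ π} := by
      rw [FlatDvr.ker_stalkMap_fiberι, ← Set.image_singleton, ← Ideal.map_span, ← hm, hφ]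
      exact map_maximalIdeal_gm f hx
    have hprime : (Ideal.span {φ π}).IsPrime := hker ▸ RingHom.ker_isPrime _
    have hrad : φ π ∈ (Ideal.span {F.b (f.fiberι y w)}).radical := by
      rw [Ideal.radical_eq_sInf, Ideal.mem_sInf]
      rintro Q ⟨hgQ, hQ⟩
      by_contra hπQ
      haveI := hQ
      obtain ⟨x', hx', rfl⟩ := H23.StalkPrimes.exists_point Q
      have hxy : f x' ⤳ y := (hx'.map f.continuous).trans (specializes_of_eq hx)
      have hne : f x' ≠ y := fun he => hπQ (by
        rw [CDiv6.mem_primeOf, hφ, spec_gm]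
        intro hu
        haveI := isLocalHom_gm f he
        exact (IsLocalRing.mem_maximalIdeal π).1 hπm (isUnit_of_map_unit (gm f (specializes_of_eq he)) π hu))
      have hd0 : ringKrullDim (Y.presheaf.stalk (f x')) = 0 := by
        have h1 := ringKrullDim_stalk_lt hxy hne
        rw [h] at h1
        have := hdom (f x')
        exact le_antisymm (Order.le_of_lt_succ (lt_of_lt_of_le h1 (le_of_eq (by rfl))))
          (ringKrullDim_nonneg_of_nontrivial (R := Y.presheaf.stalk (f x')))
      have hmax : IsMax (f x') := maximal_of_dim_zero hd0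
      have hu : ∀ a : Y.presheaf.stalk (f x'), a ≠ 0 → IsUnit a := fun a ha => by
        rw [← not_not (a := IsUnit a), ← mem_nonunits_iff, ← IsLocalRing.mem_maximalIdeal,
          maximalIdeal_eq_bot hdom hmax, Ideal.mem_bot]
        exact ha
      refine (CDiv6.mem_primeOf hx' _).1 (hgQ (Ideal.mem_span_singleton_self _)) ?_
      refine (isUnit_of_mul_isUnit_left ((F.compat x' _ hx').isUnit ((F.b_unit x' hmax).mul ?_)))
      rw [spec_stalkMap, gm_eq, RingHom.comp_apply]
      exact (hu _ (stalkSpecializes_ne_zero hdom _ (F.a_ne _))).map _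
    obtain ⟨n, hn⟩ := hrad
    rw [Ideal.mem_span_singleton] at hn
    obtain ⟨k, hk⟩ := exists_span_eq_pow hprime hreg n hn
    have := hdom (f (f.fiberι y w))
    obtain ⟨l, hl⟩ : ∃ l : ℕ, Eqv (φ (π ^ l)) (f.stalkMap _ (F.a (f.fiberι y w))) := by
      obtain ⟨a, ha⟩ : ∃ a : Y.presheaf.stalk y, φ a = f.stalkMap _ (F.a (f.fiberι y w)) := by
        refine ⟨Y.presheaf.stalkSpecializes (specializes_of_eq hx.symm) (F.a _), ?_⟩
        rw [hφ, gm_eq, RingHom.comp_apply]
        refine congrArg (f.stalkMap (f.fiberι y w)).hom ?_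
        erw [← CommRingCat.comp_apply, TopCat.Presheaf.stalkSpecializes_comp, TopCat.Presheaf.stalkSpecializes_refl]
        rfl
      have ha0 : a ≠ 0 := fun h0 => nonZeroDivisors.ne_zero (stalkMap_regular f hdom (F.a_ne (f.fiberι y w)))
        (by rw [← ha, h0, map_zero])
      obtain ⟨l, hl⟩ := IsDiscreteValuationRing.associated_pow_irreducible ha0 hπ
      exact ⟨l, ha ▸ Eqv.map φ (Ideal.span_singleton_eq_span_singleton.2 hl.symm)⟩
    refine ⟨k, l, ?_⟩
    rw [Fam.Rel, map_pow, map_pow]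
    rw [map_pow] at hl
    exact (hl.mul hk).trans (Eqv.of_eq (mul_comm _ _))
  have hgen : ∀ (x : X) (hx : f x = y), f.fiberι y (genericPoint (f.fiber y)) ⤳ x := fun x hx => by
    obtain ⟨w, rfl⟩ : x ∈ Set.range (f.fiberι y) := by rw [f.range_fiberι]; exact hx
    exact ((genericPoint_spec (f.fiber y)).specializes trivial).map (f.fiberι y).continuous
  set ξ := f.fiberι y (genericPoint (f.fiber y)) with hξdef
  have hξ : f ξ = y := FlatDvr.fiberι_apply_eq f _
  obtain ⟨kξ, lξ, Hξ⟩ := loc ξ hξ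
  refine ⟨π ^ lξ, π ^ kξ, pow_ne_zero _ hπ.ne_zero, pow_ne_zero _ hπ.ne_zero, fun x hx => ?_⟩
  obtain ⟨k, l, H⟩ := loc x hx
  refine H.of_eqv hdom (pow_ne_zero _ hπ.ne_zero) ?_
  exact Fam.Rel.eqv hdom (h := hξ) (H.generize hdom (hgen x hx)) Hξ

include hdom in
theorem P_all (hY : Pi1.IsNormalScheme Y)
    (hfib : ∀ y : Y, ringKrullDim (Y.presheaf.stalk y) = 1 → IsIntegral (f.fiber y)) (y : Y) : F.P y := by
  induction y using (InvImage.wf (fun y : Y => ringKrullDim (Y.presheaf.stalk y)) wellFounded_lt).induction with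
  | _ y ih =>
    by_cases hd : LocCoh.depth (Y.presheaf.stalk y) (Y.presheaf.stalk y) ≤ 1
    · rcases dim_le_one_of_depth hY y hd with h | h
      · exact P_of_max hdom y (maximal_of_dim_zero h)
      · haveI := hfib y h
        exact P_of_dim_one hdom hY y h
    · refine P_of_two_le_depth hdom y ?_ fun y' h' hne => ih y' (ringKrullDim_stalk_lt h' hne)
      rw [not_le] at hd
      exact (ENat.add_one_le_iff (by simp)).2 hd |>.trans' (by norm_num)

end Groth.Agent.Div21Desc
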