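import Groth.Agent.Div21Lib.GenMap
import Groth.Agent.FlatDvr.FibreStalk
import Groth.Agent.H23.FinCondSch
import Groth.Agent.AModX.Res
import Groth.Prelude.Def_Pi1
import Mathlib.AlgebraicGeometry.Morphisms.Flat

/-! Functions and the fibres over the maximal points of a normal base. -/

set_option autoImplicit false
set_option backward.isDefEq.respectTransparency false
set_option backward.isDefEq.respectTransparency.types false
set_option linter.style.haveILetI false
universe u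

open CategoryTheory CategoryTheory.Limits AlgebraicGeometry TopologicalSpace IsLocalRing Opposite

noncomputable section

namespace Groth.Agent.Div21Desc

open Groth.Agent.Div21Lib Groth.Agent.AModX

variable {X Y : Scheme.{u}} (f : X ⟶ Y)

/-- A maximal point: it has no generisation but itself. -/
def IsMax (η : Y) : Prop := ∀ z : Y, z ⤳ η → z = η

/-- A section of the structure sheaf which is nowhere zero at the maximal points. -/
def NZ {V : Y.Opens} (a : Γ(Y, V)) : Prop := ∀ (y : Y) (hy : y ∈ V), Y.presheaf.germ V y hy a ≠ 0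

variable (hdom : ∀ y : Y, IsDomain (Y.presheaf.stalk y))

include hdom

theorem exists_max (y : Y) : ∃ (η : Y) (h : η ⤳ y), IsMax η ∧ (CDiv6.primeOf h).asIdeal = ⊥ := by
  have := hdom y
  obtain ⟨η, h, hb⟩ := H23.StalkPrimes.exists_point (X := Y) (x := y) (⊥ : Ideal (Y.presheaf.stalk y))
  refine ⟨η, h, fun z hz => ?_, hb⟩
  have h1 : η ⤳ z := (H23.StalkPrimes.primeOf_le_iff (hz.trans h) h).1 (hb.le.trans bot_le)
  exact (hz.antisymm h1).eq

theorem primeOf_max_eq_bot {η y : Y} (hη : IsMax η) (h : η ⤳ y) : (CDiv6.primeOf h).asIdeal = ⊥ := by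
  obtain ⟨η₀, h₀, -, hb⟩ := exists_max hdom y
  have h1 : η₀ ⤳ η := (H23.StalkPrimes.primeOf_le_iff h h₀).1 (hb.le.trans bot_le)
  obtain rfl := hη η₀ h1
  exact hb

theorem max_unique {η η' y : Y} (hη : IsMax η) (hη' : IsMax η') (h : η ⤳ y) (h' : η' ⤳ y) : η = η' := by
  refine hη' η ((H23.StalkPrimes.primeOf_le_iff h' h).1 ?_)
  rw [primeOf_max_eq_bot hdom hη h]
  exact bot_le

theorem specializes_max_ne_zero {η y : Y} (hη : IsMax η) (h : η ⤳ y) {a : Y.presheaf.stalk y} (ha : a ≠ 0) :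
    IsUnit (Y.presheaf.stalkSpecializes h a) := by
  by_contra hu
  have h1 : a ∈ (CDiv6.primeOf h).asIdeal := (CDiv6.mem_primeOf h a).2 hu
  rw [primeOf_max_eq_bot hdom hη h, Ideal.mem_bot] at h1
  exact ha h1

theorem maximalIdeal_eq_bot {η : Y} (hη : IsMax η) : maximalIdeal (Y.presheaf.stalk η) = ⊥ := by
  refine le_antisymm (fun a ha => ?_) bot_le
  by_contra hne
  have h1 := specializes_max_ne_zero hdom hη (specializes_refl η) hne
  rw [TopCat.Presheaf.stalkSpecializes_refl] at h1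
  exact ha h1

theorem NZ.mul {V : Y.Opens} {a b : Γ(Y, V)} (ha : NZ a) (hb : NZ b) : NZ (a * b) := fun y hy => by
  have := hdom y
  rw [map_mul]
  exact mul_ne_zero (ha y hy) (hb y hy)

theorem NZ.one {V : Y.Opens} : NZ (1 : Γ(Y, V)) := fun y hy => by
  have := hdom y
  rw [map_one]
  exact one_ne_zero

omit hdom in
theorem NZ.res {V W : Y.Opens} {a : Γ(Y, V)} (ha : NZ a) (h : W ≤ V) : NZ (resR h a) := fun y hy => by
  rw [show Y.presheaf.germ W y hy (resR h a) = Y.presheaf.germ V y (h hy) a from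
    TopCat.Presheaf.germ_res_apply Y.presheaf (homOfLE h) y hy a]
  exact ha y (h hy)

theorem nz_of_max {V : Y.Opens} {η : Y} (hηV : η ∈ V) (huniq : ∀ η' : Y, IsMax η' → η' ∈ V → η' = η)
    {a : Γ(Y, V)} (ha : Y.presheaf.germ V η hηV a ≠ 0) : NZ a := fun y hy h0 => by
  obtain ⟨η', h', hm, -⟩ := exists_max hdom y
  obtain rfl := huniq η' hm (h'.mem_open V.isOpen hy)
  refine ha ?_
  rw [← Y.presheaf.germ_stalkSpecializes_apply (U := V) hy h' a]
  exact (congrArg _ h0).trans (map_zero _)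

omit hdom in
theorem le_preimage_of_germ {U : X.Opens} {V : Y.Opens} (e : U ≤ f ⁻¹ᵁ V) {x : X} (hx : x ∈ U) (a : Γ(Y, V)) :
    X.presheaf.germ U x hx (f.appLE V U e a) = f.stalkMap x (Y.presheaf.germ V (f x) (e hx) a) := by
  rw [Scheme.Hom.germ_stalkMap_apply, Scheme.Hom.appLE, CommRingCat.comp_apply,
    TopCat.Presheaf.germ_res_apply]

theorem stalkMap_regular [Flat f] {x : X} {t : Y.presheaf.stalk (f x)} (ht : t ≠ 0) :
    f.stalkMap x t ∈ nonZeroDivisors (X.presheaf.stalk x) := by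
  have := hdom (f x)
  letI := (f.stalkMap x).hom.toAlgebra
  haveI : Module.Flat (Y.presheaf.stalk (f x)) (X.presheaf.stalk x) := Flat.stalkMap f x
  exact mem_nonZeroDivisors_iff_right.2 fun z hz => (IsSMulRegular.of_flat (S := X.presheaf.stalk x)
    (show IsSMulRegular (Y.presheaf.stalk (f x)) t from fun a b hab => mul_left_cancel₀ ht hab))
    (show algebraMap _ _ t * z = algebraMap _ _ t * 0 by rw [mul_zero, mul_comm]; exact hz)

theorem germ_appLE_regular [Flat f] {U : X.Opens} {V : Y.Opens} (e : U ≤ f ⁻¹ᵁ V) {a : Γ(Y, V)} (ha : NZ a)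
    {x : X} (hx : x ∈ U) : X.presheaf.germ U x hx (f.appLE V U e a) ∈ nonZeroDivisors _ := by
  rw [le_preimage_of_germ f e hx]
  exact stalkMap_regular f hdom (ha _ _)

/-- An element of a local ring which vanishes at all points over the maximal point is zero. -/
theorem eq_zero_of_max [Flat f] {x : X} {η : Y} (hη : IsMax η) (h : η ⤳ f x) (v : X.presheaf.stalk x)
    (H : ∀ (x' : X) (hx : x' ⤳ x), f x' = η → X.presheaf.stalkSpecializes hx v = 0) : v = 0 := by
  obtain ⟨t, ht, c, hc⟩ := exists_mul_dvd f h 0 v fun x' hx hxy => by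
    rw [H x' hx (hη _ hxy)]
    exact dvd_zero _
  rw [zero_mul] at hc
  exact (stalkMap_regular f hdom fun h0 => ht (by rw [h0]; exact zero_mem _)).1 v hc

theorem regular_of_max [Flat f] {x : X} {η : Y} (hη : IsMax η) (h : η ⤳ f x) (v : X.presheaf.stalk x)
    (H : ∀ (x' : X) (hx : x' ⤳ x), f x' = η → IsUnit (X.presheaf.stalkSpecializes hx v)) :
    v ∈ nonZeroDivisors (X.presheaf.stalk x) := by
  refine mem_nonZeroDivisors_iff_right.2 fun z hz => eq_zero_of_max f hdom hη h z fun x' hx hxy => ?_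
  have h1 := congrArg (X.presheaf.stalkSpecializes hx) hz
  rw [map_mul, map_zero] at h1
  exact (H x' hx hxy).mul_left_eq_zero.1 h1

theorem stalkMap_fiberι_injective {η : Y} (hη : IsMax η) (w : ↥(f.fiber η)) :
    Function.Injective ((f.fiberι η).stalkMap w) := by
  show Function.Injective ((f.fiberι η).stalkMap w).hom
  rw [RingHom.injective_iff_ker_eq_bot, FlatDvr.ker_stalkMap_fiberι]
  have hm : IsMax (f (f.fiberι η w)) := by rwa [FlatDvr.fiberι_apply_eq]
  rw [maximalIdeal_eq_bot hdom hm, Ideal.map_bot]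

/-- A function which vanishes on the fibres over all maximal points is zero. -/
theorem eq_of_generic [Flat f] {U : X.Opens} {a b : Γ(X, U)}
    (H : ∀ η : Y, IsMax η → (f.fiberι η).app U a = (f.fiberι η).app U b) : a = b := by
  refine TopCat.Presheaf.section_ext X.sheaf U a b fun x hx => ?_
  obtain ⟨η, h, hη, -⟩ := exists_max hdom (f x)
  show X.presheaf.germ U x hx a = X.presheaf.germ U x hx b
  rw [← sub_eq_zero, ← map_sub]
  refine eq_zero_of_max f hdom hη h _ fun x' hx' he => ?_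
  obtain ⟨w, rfl⟩ : x' ∈ Set.range (f.fiberι η) := by rw [f.range_fiberι]; exact he
  refine stalkMap_fiberι_injective f hdom hη w ?_
  rw [map_zero]
  erw [X.presheaf.germ_stalkSpecializes_apply (U := U) hx hx' (a - b)]
  rw [Scheme.Hom.germ_stalkMap_apply, map_sub, H η hη, sub_self, map_zero]

variable [IsLocallyNoetherian Y]

/-- A neighbourhood with a single maximal point. -/
theorem exists_affine_single {y : Y} {η : Y} (hη : IsMax η) (h : η ⤳ y) :
    ∃ V : Y.Opens, IsAffineOpen V ∧ y ∈ V ∧ η ∈ V ∧ ∀ η' : Y, IsMax η' → η' ∈ V → η' = η := by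
  have := hdom y
  obtain ⟨V₀, hyV₀, hV₀⟩ := H23.FinCondSch.exists_integral_nhd y
  obtain ⟨V, hV, hyV, hle⟩ := exists_isAffineOpen_mem_and_subset (x := y) (U := V₀) hyV₀
  refine ⟨V, hV, hyV, h.mem_open V.isOpen hyV, fun η' hη' hηV' => ?_⟩
  have hg : ∀ z : (V₀ : Scheme.{u}), (V₀.ι (genericPoint (V₀ : Scheme.{u}))) ⤳ V₀.ι z := fun z =>
    ((genericPoint_spec (V₀ : Scheme.{u})).specializes trivial).map V₀.ι.continuous
  have h1 := hη' _ (hg ⟨η', hle hηV'⟩)
  have h2 := hη _ (hg ⟨η, hle (h.mem_open V.isOpen hyV)⟩)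
  exact h1.symm.trans h2

omit hdom [IsLocallyNoetherian Y] in
theorem appLE_fromSpecResidueField {V : Y.Opens} {η : Y} (hηV : η ∈ V)
    (hT : (⊤ : (Spec (Y.residueField η)).Opens) ≤ Y.fromSpecResidueField η ⁻¹ᵁ V) (c : Γ(Y, V)) :
    (Scheme.ΓSpecIso (Y.residueField η)).hom ((Y.fromSpecResidueField η).appLE V ⊤ hT c) =
      Y.residue η (Y.presheaf.germ V η hηV c) := by
  have e₁ : (⊤ : (Spec (Y.presheaf.stalk η)).Opens) ≤ Y.fromSpecStalk η ⁻¹ᵁ V := fun q _ =>
    (CDiv6.fromSpecStalk_specializes q).mem_open V.isOpen hηV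
  have h3 : (Y.fromSpecStalk η).appLE V ⊤ e₁ =
      Y.presheaf.germ V η hηV ≫ (Scheme.ΓSpecIso (Y.presheaf.stalk η)).inv := by
    rw [Scheme.Hom.appLE, Scheme.fromSpecStalk_app hηV, Category.assoc, Category.assoc, ← Functor.map_comp]
    erw [(Spec (Y.presheaf.stalk η)).presheaf.map_id]
    rw [Category.comp_id]
  have h4 : (Y.fromSpecResidueField η).appLE V ⊤ hT =
      (Y.fromSpecStalk η).appLE V ⊤ e₁ ≫ (Spec.map (Y.residue η)).appTop := by
    rw [Scheme.Hom.appTop, Scheme.Hom.app_eq_appLE, Scheme.Hom.appLE_comp_appLE]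
    rfl
  have h5 : (Y.fromSpecResidueField η).appLE V ⊤ hT ≫ (Scheme.ΓSpecIso (Y.residueField η)).hom =
      Y.presheaf.germ V η hηV ≫ Y.residue η := by
    rw [h4, h3, Category.assoc, Category.assoc, Scheme.ΓSpecIso_naturality, Iso.inv_hom_id_assoc]
  exact ConcreteCategory.congr_hom h5 c

/-- The sections of a fibre over a maximal point are fractions. -/
theorem exists_frac {x : X} {η : Y} (hη : IsMax η) (h : η ⤳ f x) {U : X.Opens} (hx : x ∈ U)
    (w : Γ(f.fiber η, f.fiberι η ⁻¹ᵁ U)) :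
    ∃ (U' : X.Opens) (hle : U' ≤ U) (V : Y.Opens) (e : U' ≤ f ⁻¹ᵁ V) (a : Γ(Y, V)) (b : Γ(X, U')),
      x ∈ U' ∧ IsAffineOpen U' ∧ (∀ η' : Y, IsMax η' → η' ∈ V → η' = η) ∧ NZ a ∧
        (f.fiberι η).app U' b = (f.fiberι η).app U' (f.appLE V U' e a) *
          resR (X := f.fiber η) ((f.fiberι η).preimage_mono hle) w := by
  obtain ⟨V, hV, hyV, hηV, huniq⟩ := exists_affine_single hdom hη h
  obtain ⟨U', hU', hxU', hle'⟩ := exists_isAffineOpen_mem_and_subset (x := x) (U := U ⊓ f ⁻¹ᵁ V) ⟨hx, hyV⟩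
  have hle : U' ≤ U := fun z hz => (hle' hz).1
  have e : U' ≤ f ⁻¹ᵁ V := fun z hz => (hle' hz).2
  let g := Y.fromSpecResidueField η
  let UY : (f.fiber η).Opens := f.fiberι η ⁻¹ᵁ U'
  have H : IsPullback (f.fiberι η) (f.fiberToSpecResidueField η) f g := IsPullback.of_hasPullback _ _
  have hT : (⊤ : (Spec (Y.residueField η)).Opens) ≤ g ⁻¹ᵁ V := fun p _ => by
    show g p ∈ V
    rwa [Scheme.fromSpecResidueField_apply]
  have hUY : UY = f.fiberι η ⁻¹ᵁ U' ⊓ f.fiberToSpecResidueField η ⁻¹ᵁ ⊤ := by simp [UY]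
  have hiso := isIso_pushoutSection_of_isAffineOpen H hT e hUY hV (isAffineOpen_top _) hU'
  have hpo := (isIso_pushoutSection_iff H hT e hUY).1 hiso
  let ι' := ((f.fiberι η).appLE U' UY le_rfl).hom
  let φ := (f.appLE V U' e).hom
  let S : Subring Γ(f.fiber η, UY) :=
    { carrier := {z | ∃ (a : Γ(Y, V)) (b : Γ(X, U')), NZ a ∧ ι' b = ι' (φ a) * z}
      mul_mem' := fun {z z'} ⟨a, b, ha, hb⟩ ⟨a', b', ha', hb'⟩ => ⟨a * a', b * b', ha.mul hdom ha', by
        rw [map_mul, map_mul, map_mul, hb, hb']; ring⟩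
      one_mem' := ⟨1, 1, NZ.one hdom, by simp⟩
      add_mem' := fun {z z'} ⟨a, b, ha, hb⟩ ⟨a', b', ha', hb'⟩ => ⟨a * a', φ a' * b + φ a * b', ha.mul hdom ha', by
        simp only [map_mul, map_add, hb, hb']; ring⟩
      zero_mem' := ⟨1, 0, NZ.one hdom, by simp⟩
      neg_mem' := fun {z} ⟨a, b, ha, hb⟩ => ⟨a, -b, ha, by simp [hb]⟩ }
  have hfst : ∀ b, ι' b ∈ S := fun b => ⟨1, b, NZ.one hdom, by simp⟩
  have hsnd : ∀ k, ((f.fiberToSpecResidueField η).appLE ⊤ UY (by simp [UY])).hom k ∈ S := by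
    intro k
    letI : Algebra Γ(Y, V) (Y.presheaf.stalk η) := (Y.presheaf.germ V η hηV).hom.toAlgebra
    haveI : IsLocalization.AtPrime (Y.presheaf.stalk η) (hV.primeIdealOf ⟨η, hηV⟩).asIdeal :=
      hV.isLocalization_stalk ⟨η, hηV⟩
    obtain ⟨r, hr⟩ := Y.residue_surjective η ((Scheme.ΓSpecIso (Y.residueField η)).hom k)
    obtain ⟨p, s, hps⟩ := IsLocalization.exists_mk'_eq (hV.primeIdealOf ⟨η, hηV⟩).asIdeal.primeCompl r
    have hs : Y.presheaf.germ V η hηV s.1 ≠ 0 := (IsLocalization.map_units (Y.presheaf.stalk η) s).ne_zero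
    refine ⟨s.1, φ p, nz_of_max hdom hηV huniq hs, ?_⟩
    have key : ∀ c : Γ(Y, V), ι' (φ c) = ((f.fiberToSpecResidueField η).appLE ⊤ UY (by simp [UY])).hom
        (g.appLE V ⊤ hT c) := fun c => by
      exact ConcreteCategory.congr_hom hpo.w c
    have hg : ∀ c : Γ(Y, V), (Scheme.ΓSpecIso (Y.residueField η)).hom (g.appLE V ⊤ hT c) =
        Y.residue η (Y.presheaf.germ V η hηV c) :=
      appLE_fromSpecResidueField hηV hT
    rw [key, key, ← map_mul]
    congr 1
    apply (ConcreteCategory.bijective_of_isIso (Scheme.ΓSpecIso (Y.residueField η)).hom).1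
    rw [map_mul, hg, hg, ← hr, ← map_mul, ← hps]
    exact congrArg _ (IsLocalization.mk'_spec' (Y.presheaf.stalk η) p s).symm
  let d : Γ(f.fiber η, UY) ⟶ CommRingCat.of S :=
    hpo.desc (CommRingCat.ofHom (ι'.codRestrict S hfst))
      (CommRingCat.ofHom (((f.fiberToSpecResidueField η).appLE ⊤ UY (by simp [UY])).hom.codRestrict S hsnd))
      (by
        ext c
        exact ConcreteCategory.congr_hom hpo.w c)
  have hd : d ≫ CommRingCat.ofHom S.subtype = 𝟙 _ := by
    apply hpo.hom_ext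
    · rw [IsPushout.inl_desc_assoc]; rfl
    · rw [IsPushout.inr_desc_assoc]; rfl
  obtain ⟨a, b, ha, hb⟩ : resR (X := f.fiber η) ((f.fiberι η).preimage_mono hle) w ∈ S := by
    have := (d (resR (X := f.fiber η) ((f.fiberι η).preimage_mono hle) w)).2
    rwa [show ((d (resR (X := f.fiber η) ((f.fiberι η).preimage_mono hle) w)) : Γ(f.fiber η, UY)) = _ from
      ConcreteCategory.congr_hom hd _] at this
  refine ⟨U', hle, V, e, a, b, hxU', hU', huniq, ha, ?_⟩
  rw [Scheme.Hom.app_eq_appLE]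
  exact hb

end Groth.Agent.Div21Desc
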