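import Groth.Agent.Div21Desc.Family
import Groth.Agent.InvX.Pullback
import Groth.Agent.InvX.GenLocusPull
import Groth.Agent.InvX.Tensor

/-! Sections of a module trivialised on the fibres over the maximal points. -/

set_option autoImplicit false
set_option backward.isDefEq.respectTransparency false
set_option backward.isDefEq.respectTransparency.types false
set_option linter.style.haveILetI false
universe u

open CategoryTheory CategoryTheory.Limits AlgebraicGeometry TopologicalSpace IsLocalRing Opposite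

noncomputable section

namespace Groth.Agent.Div21Desc

open Groth.Agent.Div21Lib Groth.Agent.AModX Groth.Agent.InvX

variable {X Y : Scheme.{u}} {f : X ⟶ Y}

/-- A frame of the structure sheaf is a unit. -/
theorem isUnit_of_isFrame {Z : Scheme.{u}} {U : Z.Opens} {w : Γ(Coh.structureModule Z, U)} (hw : IsFrame w) :
    IsUnit (show Γ(Z, U) from w) := by
  obtain ⟨r, hr⟩ := (hw U le_rfl).2 (show Γ(Coh.structureModule Z, U) from (1 : Γ(Z, U)))
  exact IsUnit.of_mul_eq_one r (Eq.trans (mul_comm _ _)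
    (by simp only [res_self] at hr; exact hr))

theorem app_resR {Z : Scheme.{u}} (g : Z ⟶ X) {V W : X.Opens} (h : W ≤ V) (a : Γ(X, V)) :
    g.app W (resR h a) = resR (g.preimage_mono h) (g.app V a) :=
  ConcreteCategory.congr_hom (g.naturality (homOfLE h).op) a

theorem resR_appLE {U U' : X.Opens} {V : Y.Opens} (h : U' ≤ U) (e : U ≤ f ⁻¹ᵁ V) (a : Γ(Y, V)) :
    resR h (f.appLE V U e a) = f.appLE V U' (h.trans e) a :=
  ConcreteCategory.congr_hom (f.appLE_map e (homOfLE h).op) a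

theorem appLE_resR {U : X.Opens} {V V' : Y.Opens} (h : V' ≤ V) (e : U ≤ f ⁻¹ᵁ V') (a : Γ(Y, V)) :
    f.appLE V' U e (resR h a) = f.appLE V U (e.trans (f.preimage_mono h)) a :=
  ConcreteCategory.congr_hom (f.map_appLE e (homOfLE h).op) a

theorem germ_resR {Z : Scheme.{u}} {V W : Z.Opens} (h : W ≤ V) (a : Γ(Z, V)) {z : Z} (hz : z ∈ W) :
    Z.presheaf.germ W z hz (resR h a) = Z.presheaf.germ V z (h hz) a :=
  TopCat.Presheaf.germ_res_apply Z.presheaf (homOfLE h) z hz a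

variable {L : X.Modules}

/-- A section with frames around each point is a frame. -/
theorem isFrame_of_locally {U : X.Opens} {s : Γ(L, U)}
    (h : ∀ p ∈ U, ∃ (W : X.Opens) (hW : W ≤ U), p ∈ W ∧ IsFrame (res L hW s)) : IsFrame s := by
  intro V hV
  have hW : ∀ p : (V : Set X), ∃ (W : X.Opens) (hW : W ≤ U), p.1 ∈ W ∧ IsFrame (res L hW s) :=
    fun p => h p.1 (hV p.2)
  choose W hWU hpW hfr using hW
  refine ⟨fun a b hab => ?_, fun t => ?_⟩
  · refine TopCat.Presheaf.section_ext X.sheaf V a b fun p hp => ?_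
    have h1 := congrArg (res L (inf_le_left : V ⊓ W ⟨p, hp⟩ ≤ V)) hab
    simp only [res_smul, res_res] at h1
    have h2 : resR inf_le_left a = resR (inf_le_left : V ⊓ W ⟨p, hp⟩ ≤ V) b :=
      (hfr ⟨p, hp⟩).coord_unique inf_le_right (by simpa only [res_res] using h1)
    show X.presheaf.germ V p hp a = X.presheaf.germ V p hp b
    rw [← germ_resR (inf_le_left : V ⊓ W ⟨p, hp⟩ ≤ V) a (z := p) ⟨hp, hpW ⟨p, hp⟩⟩, h2, germ_resR]
  · have hc := fun p : (V : Set X) => (hfr p).exists_coord (inf_le_right : V ⊓ W p ≤ W p) (res L inf_le_left t)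
    choose r hr using hc
    simp only [res_res] at hr
    obtain ⟨a, ha, -⟩ := TopCat.Sheaf.existsUnique_gluing' X.sheaf (fun p : (V : Set X) => V ⊓ W p) V
      (fun p => homOfLE inf_le_left) (fun p hp => Opens.mem_iSup.mpr ⟨⟨p, hp⟩, hp, hpW ⟨p, hp⟩⟩) r
      (fun p q => by
        show resR inf_le_left (r p) = resR inf_le_right (r q)
        refine (hfr p).coord_unique (inf_le_left.trans inf_le_right) ?_
        have h1 := congrArg (res L (inf_le_left : (V ⊓ W p) ⊓ (V ⊓ W q) ≤ V ⊓ W p)) (hr p)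
        have h2 := congrArg (res L (inf_le_right : (V ⊓ W p) ⊓ (V ⊓ W q) ≤ V ⊓ W q)) (hr q)
        simp only [res_smul, res_res] at h1 h2 ⊢
        exact h1.symm.trans h2)
    refine ⟨a, eq_of_locally _ _ fun p hp => ⟨V ⊓ W ⟨p, hp⟩, inf_le_left, ⟨hp, hpW ⟨p, hp⟩⟩, ?_⟩⟩
    have h1 : resR (inf_le_left : V ⊓ W ⟨p, hp⟩ ≤ V) a = r ⟨p, hp⟩ := ha ⟨p, hp⟩
    simp only [res_smul, res_res, h1]
    exact (hr ⟨p, hp⟩).symm

variable (φ : ∀ η : Y, IsMax η →
  ((Scheme.Modules.pullback (f.fiberι η)).obj L ≅ Coh.structureModule (f.fiber η)))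

/-- The function on the fibre attached to a section. -/
def θ (η : Y) (hη : IsMax η) {U : X.Opens} (t : Γ(L, U)) : Γ(f.fiber η, f.fiberι η ⁻¹ᵁ U) :=
  (φ η hη).hom.app (f.fiberι η ⁻¹ᵁ U) (pullElt (f.fiberι η) t)

theorem θ_smul (η : Y) (hη : IsMax η) {U : X.Opens} (r : Γ(X, U)) (t : Γ(L, U)) :
    θ φ η hη (r • t) = (f.fiberι η).app U r * θ φ η hη t := by
  unfold θ pullElt
  rw [Scheme.Modules.Hom.app_smul]
  erw [Scheme.Modules.Hom.app_smul]
  rfl

theorem θ_add (η : Y) (hη : IsMax η) {U : X.Opens} (t t' : Γ(L, U)) :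
    θ φ η hη (t + t') = θ φ η hη t + θ φ η hη t' := by
  unfold θ pullElt
  rw [map_add]
  erw [map_add]

theorem θ_zero (η : Y) (hη : IsMax η) {U : X.Opens} : θ φ η hη (0 : Γ(L, U)) = 0 := by
  have h := θ_add φ η hη (0 : Γ(L, U)) 0
  rw [add_zero] at h
  exact left_eq_add.1 h

theorem θ_res (η : Y) (hη : IsMax η) {U W : X.Opens} (h : W ≤ U) (t : Γ(L, U)) :
    θ φ η hη (res L h t) = resR (X := f.fiber η) ((f.fiberι η).preimage_mono h) (θ φ η hη t) := by
  unfold θ pullElt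
  erw [app_res]
  exact app_res (φ η hη).hom ((f.fiberι η).preimage_mono h) _

theorem θ_frame (η : Y) (hη : IsMax η) {U : X.Opens} {e : Γ(L, U)} (he : IsFrame e) :
    IsUnit (θ φ η hη e) :=
  isUnit_of_isFrame (IsFrame.map_iso (φ η hη) (isFrame_pullElt (f.fiberι η) he))

/-- The section corresponds to the function on the fibres over the maximal points. -/
def Tr {U : X.Opens} (t : Γ(L, U)) (a : Γ(X, U)) : Prop :=
  ∀ (η : Y) (hη : IsMax η), θ φ η hη t = (f.fiberι η).app U a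

variable {φ}

theorem Tr.res {U W : X.Opens} (h : W ≤ U) {t : Γ(L, U)} {a : Γ(X, U)} (H : Tr φ t a) :
    Tr φ (AModX.res L h t) (resR h a) := fun η hη => by
  rw [θ_res, H η hη, app_resR]

theorem Tr.add {U : X.Opens} {t t' : Γ(L, U)} {a a' : Γ(X, U)} (H : Tr φ t a) (H' : Tr φ t' a') :
    Tr φ (t + t') (a + a') := fun η hη => by
  rw [θ_add, H η hη, H' η hη, map_add]

theorem Tr.zero {U : X.Opens} : Tr φ (0 : Γ(L, U)) (0 : Γ(X, U)) := fun η hη => by
  rw [θ_zero, map_zero]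

theorem Tr.smul {U : X.Opens} (r : Γ(X, U)) {t : Γ(L, U)} {a : Γ(X, U)} (H : Tr φ t a) :
    Tr φ (r • t) (r * a) := fun η hη => by
  rw [θ_smul, H η hη, map_mul]

theorem Tr.of_locally {U : X.Opens} {t : Γ(L, U)} {a : Γ(X, U)}
    (h : ∀ p ∈ U, ∃ (W : X.Opens) (hW : W ≤ U), p ∈ W ∧ Tr φ (AModX.res L hW t) (resR hW a)) :
    Tr φ t a := fun η hη => by
  refine TopCat.Presheaf.section_ext (f.fiber η).sheaf _ _ _ fun z hz => ?_
  obtain ⟨W, hW, hzW, H⟩ := h (f.fiberι η z) hz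
  show (f.fiber η).presheaf.germ _ z hz _ = (f.fiber η).presheaf.germ _ z hz _
  rw [← germ_resR ((f.fiberι η).preimage_mono hW) (θ φ η hη t) (z := z) hzW, ← θ_res φ η hη hW, H η hη, app_resR, germ_resR]

variable (hdom : ∀ y : Y, IsDomain (Y.presheaf.stalk y)) [Flat f] (hL : PicF.IsInvertible L)

include hdom in
theorem Tr.unique {U : X.Opens} {t : Γ(L, U)} {a a' : Γ(X, U)} (H : Tr φ t a) (H' : Tr φ t a') : a = a' :=
  eq_of_generic f hdom fun η hη => (H η hη).symm.trans (H' η hη)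

include hdom hL in
theorem Tr.inj {U : X.Opens} {t t' : Γ(L, U)} {a : Γ(X, U)} (H : Tr φ t a) (H' : Tr φ t' a) : t = t' := by
  refine eq_of_locally _ _ fun p hp => ?_
  obtain ⟨W, hpW, e, he⟩ := InvX.exists_frame hL p
  refine ⟨U ⊓ W, inf_le_left, ⟨hp, hpW⟩, ?_⟩
  obtain ⟨r, hr⟩ := he.exists_coord inf_le_right (AModX.res L (inf_le_left : U ⊓ W ≤ U) t)
  obtain ⟨r', hr'⟩ := he.exists_coord inf_le_right (AModX.res L (inf_le_left : U ⊓ W ≤ U) t')
  rw [hr, hr']
  congr 1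
  refine eq_of_generic f hdom fun η hη => ?_
  have h1 := H.res (inf_le_left : U ⊓ W ≤ U) η hη
  have h2 := H'.res (inf_le_left : U ⊓ W ≤ U) η hη
  rw [hr, θ_smul] at h1
  rw [hr', θ_smul] at h2
  exact (θ_frame φ η hη (he.res _)).mul_left_inj.1 (h1.trans h2.symm)

include hdom in
theorem Tr.cancel {U : X.Opens} {V : Y.Opens} {e : U ≤ f ⁻¹ᵁ V} {q : Γ(Y, V)} (hq : NZ q) {t : Γ(L, U)}
    {a : Γ(X, U)} (H : Tr φ (f.appLE V U e q • t) (f.appLE V U e q * a)) : Tr φ t a := fun η hη => by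
  have h1 := H η hη
  rw [θ_smul, map_mul] at h1
  refine (IsUnit.mul_right_inj ?_).1 h1
  refine RingedSpace.isUnit_of_isUnit_germ (f.fiber η).toRingedSpace _ _ fun z hz => ?_
  erw [← Scheme.Hom.germ_stalkMap_apply (f.fiberι η) U z hz]
  refine IsUnit.map _ ?_
  rw [le_preimage_of_germ f e hz]
  refine IsUnit.map _ ?_
  rw [← not_not (a := IsUnit _), ← mem_nonunits_iff, ← IsLocalRing.mem_maximalIdeal,
    maximalIdeal_eq_bot hdom (show IsMax (f (f.fiberι η z)) by rwa [FlatDvr.fiberι_apply_eq]), Ideal.mem_bot]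
  exact hq _ _

variable (φ) [IsLocallyNoetherian Y]

include hdom hL in
/-- Around each point a multiple of a frame corresponds to a function of the base. -/
theorem exists_chart (x : X) : ∃ (U : X.Opens) (V : Y.Opens) (le : U ≤ f ⁻¹ᵁ V) (e : Γ(L, U)) (a : Γ(Y, V))
    (b : Γ(X, U)), x ∈ U ∧ IsFrame e ∧ NZ a ∧ Tr φ (b • e) (f.appLE V U le a) ∧
      ∀ (x' : X) (hx' : x' ∈ U), X.presheaf.germ U x' hx' b ∈ nonZeroDivisors _ ∧
        (IsMax (f x') → IsUnit (X.presheaf.germ U x' hx' b)) := by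
  obtain ⟨U₀, hxU₀, e₀, he₀⟩ := InvX.exists_frame hL x
  obtain ⟨η, h, hη, -⟩ := exists_max hdom (f x)
  obtain ⟨w, hw⟩ := θ_frame φ η hη he₀
  obtain ⟨U, hle, V, le, a, b, hxU, -, huniq, ha, hb⟩ := exists_frac f hdom hη h hxU₀ (↑w⁻¹)
  have hunit : ∀ (x' : X) (hx' : x' ∈ U), IsMax (f x') → IsUnit (X.presheaf.germ U x' hx' b) := by
    intro x' hx' hm
    have he : f x' = η := huniq _ hm (le hx')
    obtain ⟨z, rfl⟩ : x' ∈ Set.range (f.fiberι η) := by rw [f.range_fiberι]; exact he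
    refine isUnit_of_map_unit ((f.fiberι η).stalkMap z).hom _ ?_
    erw [Scheme.Hom.germ_stalkMap_apply, hb]
    rw [map_mul, ← Scheme.Hom.germ_stalkMap_apply]
    refine IsUnit.mul (IsUnit.map _ ?_) (IsUnit.map _ ((Units.isUnit _).map _))
    rw [le_preimage_of_germ f le hx']
    refine IsUnit.map _ ?_
    rw [← not_not (a := IsUnit _), ← mem_nonunits_iff, ← IsLocalRing.mem_maximalIdeal,
      maximalIdeal_eq_bot hdom hm, Ideal.mem_bot]
    exact ha _ _
  refine ⟨U, V, le, AModX.res L hle e₀, a, b, hxU, he₀.res hle, ha, fun η' hη' => ?_,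
    fun x' hx' => ⟨?_, hunit x' hx'⟩⟩
  · by_cases he : η' = η
    · subst he
      rw [θ_smul, θ_res, hb, mul_assoc, ← map_mul (resR (X := f.fiber η') _), show θ φ η' hη' e₀ = ↑w from hw.symm,
        Units.inv_mul, map_one, mul_one]
    · refine TopCat.Presheaf.section_ext (f.fiber η').sheaf _ _ _ fun z hz => absurd ?_ he
      exact huniq η' hη' (FlatDvr.fiberι_apply_eq f z ▸ le hz)
  · obtain ⟨η', h', hη'', -⟩ := exists_max hdom (f x')
    refine regular_of_max f hdom hη'' h' _ fun x'' hx'' he => ?_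
    erw [X.presheaf.germ_stalkSpecializes_apply (U := U) hx' hx'' b]
    exact hunit x'' _ (he ▸ hη'')

end Groth.Agent.Div21Desc
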